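import Cfsg.Agent.Mrg.Omega.EK3.FKG.Fr
import Cfsg.Agent.Mrg.Omega.EK3.FK.End


/-!
# (4F-K) with weak inputs, `k ≥ 3`: the end

Port of helper203's `EK3/FK/End.lean` to `FrW`.

* **`FrW.false_of`**.
-/

set_option autoImplicit false
set_option linter.unusedSectionVars false

namespace Cfsg.Agent.Omega.EK3.FKG

open Subgroup Cfsg Cfsg.Agent.ZN.ChoiceBase
open Cfsg.Agent.ZN (jj zj bau zc zl o2)
open Cfsg.Agent.ZN.ChoiceSit (Syl exists_syl syl_conj)
open Cfsg.Agent.Omega.NO3S.EThree.Frame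
open Cfsg.Agent.Omega.NO3S.EThree.ExactA (eab_mono eab_iff)
open Cfsg.Agent.Omega.Node.MultiOf
open Cfsg.Agent.Omega.OM.LevD (LB)
open Cfsg.Agent.Omega.EK3.FK
open Cfsg.Agent.Omega.EK3.StarE
open Cfsg.Agent.Omega.EK3.Rank (NoOn)
open Cfsg.Agent.Omega.ML.Final (MLK)
open Cfsg.Agent.MinSimple.MinParabolic (IsMinPar le_of_forall)
open Cfsg.Agent.MinSimple.VModule (o2_isPGroup le_o2 le_normalizer_o2 o2_le_of_sylow)

universe u

variable {G : Type u} [Group G] {k : ℕ}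

namespace FrW

variable [Finite G] {S : Sylow 2 G} {P K B ZJ : Subgroup G} {L W Z C : Fin k → Subgroup G} {z : Fin k → G}
  (h : FrW S P K B ZJ L W Z C z)
include h

theorem Z_index (i : Fin k) : ((zpowers (z i)).subgroupOf (Z i)).index = 2 := by
  have h1 : Nat.card (zpowers (z i)) = 2 := by
    rw [Nat.card_zpowers]
    exact orderOf_eq_prime (h.ZJ_sq (h.z_ZJ i)) (h.z1 i)
  have h2 := Subgroup.relIndex_mul_relIndex ⊥ (zpowers (z i)) (Z i) bot_le (zpowers_le.2 (h.zZ i))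
  rw [Subgroup.relIndex_bot_left, Subgroup.relIndex_bot_left, h1, h.bg.fr.cardZ] at h2
  change (zpowers (z i)).relIndex (Z i) = 2
  omega

theorem mem_zp {i : Fin k} {w : G} (hw : w ∈ zpowers (z i)) : w = 1 ∨ w = z i := by
  obtain ⟨n, rfl⟩ := mem_zpowers_iff.1 hw
  rcases Int.even_or_odd' n with ⟨m, rfl | rfl⟩
  · left
    rw [zpow_mul]
    have : z i ^ (2 : ℤ) = 1 := by exact_mod_cast h.ZJ_sq (h.z_ZJ i)
    rw [this, one_zpow]
  · right
    rw [zpow_add, zpow_mul]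
    have : z i ^ (2 : ℤ) = 1 := by exact_mod_cast h.ZJ_sq (h.z_ZJ i)
    rw [this, one_zpow, one_mul, zpow_one]

theorem exists_p (i : Fin k) : ∃ p ∈ Z i, p ∉ zpowers (z i) := by
  by_contra hcon
  push Not at hcon
  have h1 := h.Z_index i
  rw [subgroupOf_eq_top.2 hcon, index_top] at h1
  omega

theorem div_mem {i : Fin k} {p w : G} (hp : p ∈ Z i) (hpz : p ∉ zpowers (z i)) (hw : w ∈ Z i)
    (hwz : w ∉ zpowers (z i)) : w * p⁻¹ ∈ zpowers (z i) := by
  have h1 := (Subgroup.mul_mem_iff_of_index_two (h.Z_index i) (a := ⟨w, hw⟩) (b := ⟨p⁻¹, inv_mem hp⟩)).2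
  rw [mem_subgroupOf, mem_subgroupOf, mem_subgroupOf] at h1
  exact h1 ⟨fun h2 => absurd h2 hwz, fun h2 => absurd (inv_mem_iff.1 h2) hpz⟩

/-- `Y_j ∩ N(Z_i)` stabilises `p ⟨z_l : l ≠ j⟩` -/
theorem NZ_St {i j : Fin k} (hij : i ≠ j) {p c : G} (hp : p ∈ Z i) (hpz : p ∉ zpowers (z i)) (hc : c ∈ YY z j)
    (hcZ : c ∈ normalizer (Z i : Set G)) : c ∈ St z j p := by
  refine ⟨hc, ?_⟩
  have hw : c * p * c⁻¹ ∈ Z i := (mem_normalizer_iff.1 hcZ p).1 hp
  have hcz := mem_YY.1 hc i hij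
  have hwz : c * p * c⁻¹ ∉ zpowers (z i) := by
    intro h1
    apply hpz
    have h2 : c⁻¹ * (c * p * c⁻¹) * c = c * p * c⁻¹ := by
      rcases h.mem_zp h1 with e | e
      · rw [e]; group
      · rw [e, mul_assoc, ← hcz]; group
    have e3 : c⁻¹ * (c * p * c⁻¹) * c = p := by group
    rw [← e3, h2]
    exact h1
  exact (zpowers_le.2 (z_ZC hij)) (h.div_mem hp hpz hw hwz)

/-- the stabiliser of `z_j ⟨z_l : l ≠ j⟩` in `Y_j` centralises `z_j` -/
theorem stx {j : Fin k} {c : G} (hc : c ∈ YY z j) (h1 : c * z j * c⁻¹ * (z j)⁻¹ ∈ ZC z j) : c * z j = z j * c := by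
  have hcD : ∀ d ∈ DD z, c * d * c⁻¹ ∈ DD z := by
    intro d hd
    have hdY : d ∈ YY z j := DD_le_CT hd
    refine mem_DD_of (mul_mem (mul_mem hc hdY) (inv_mem hc)) ?_
    set u := c * z j * c⁻¹ * (z j)⁻¹ with hu
    have e1 : c⁻¹ * z j * c = u⁻¹ * z j := by
      have h2 : c * (u⁻¹ * z j) * c⁻¹ = z j := by
        have h3 : c * (u⁻¹ * z j) * c⁻¹ = (c * u⁻¹) * c⁻¹ * (c * z j * c⁻¹) := by group
        rw [h3, YY_ZC hc (inv_mem h1), hu]
        group
      calc c⁻¹ * z j * c = c⁻¹ * (c * (u⁻¹ * z j) * c⁻¹) * c := by rw [h2]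
        _ = u⁻¹ * z j := by group
    have e2 : d * (u⁻¹ * z j) = (u⁻¹ * z j) * d := by
      rw [← mul_assoc, YY_ZC hdY (inv_mem h1), mul_assoc, mem_DD.1 hd j, mul_assoc]
    calc c * d * c⁻¹ * z j = c * (d * (c⁻¹ * z j * c)) * c⁻¹ := by group
      _ = c * ((c⁻¹ * z j * c) * d) * c⁻¹ := by rw [e1, e2]
      _ = z j * (c * d * c⁻¹) := by group
  have h2 : cj c (TT S W) ≤ DD z := by
    rintro _ ⟨t, ht, rfl⟩
    exact hcD t (h.T_D ht)
  obtain ⟨R', hR', hle⟩ := exists_syl (isPGroup_cj c T_two) h2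
  obtain ⟨x, hx, rfl⟩ := syl_conj (h.syl_D h.T_D le_rfl) hR'
  have h3 : cj c (TT S W) = cj x (TT S W) := Subgroup.eq_of_le_of_card_ge hle (by rw [card_cj, card_cj])
  have h4 : x⁻¹ * c ∈ normalizer (TT S W : Set G) := by
    rw [mem_normalizer_iff_cj, ← cj_cj, h3, cj_inv_cj]
  have h5 := (h.norm_T (j := j) (mul_mem (inv_mem (DD_le_CT hx)) hc) h4).1
  have h6 : c ∈ DD z := by
    have := mul_mem hx h5
    rwa [mul_inv_cancel_left] at this
  exact mem_DD.1 h6 j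

theorem Z_NN (i : Fin k) : Z i ≤ NN z i := by
  intro w hw
  by_cases hw1 : w = 1
  · rw [hw1]; exact one_mem _
  obtain ⟨x, hx, -, -, e⟩ := h.tor hw hw1
  rw [← e]
  exact cj_le_EE hx ⟨z i, mem_zpowers _, rfl⟩

/-- **LOW** -/
theorem low (hF : Fr (o2 (DD z)) (DD z) (ZT z) (YY z) (NN z) (LL z Z)) {i j : Fin k} {F₁ F : Subgroup G} {x : G}
    (o : Out (o2 (DD z)) (ZT z) (YY z) (NN z) (LL z Z) i j F₁ F x) :
    F ≤ o2 (YY z j ⊓ centralizer (Z i : Set G)) := by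
  refine o.low hF (Zp := zpowers (z j)) (o2_isPGroup _) (h.Z_NN i) ?_ ?_ (zpowers_le.2 (z_NN z j)) ?_
  · -- `L i` normalises `Y_j ∩ C(Z_i)`
    have key : ∀ g ∈ LL z Z i, cj g (YY z j ⊓ centralizer (Z i : Set G)) ≤ YY z j ⊓ centralizer (Z i : Set G) := by
      rintro g ⟨hgY, hgZ⟩ _ ⟨y, ⟨hy, hyZ⟩, rfl⟩
      have h1 : g * y * g⁻¹ ∈ centralizer (Z i : Set G) := by
        have h2 : cj g (centralizer (Z i : Set G)) = centralizer (Z i : Set G) := by
          rw [cj_centralizer, mem_normalizer_iff_cj.1 hgZ]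
        rw [← h2]
        exact ⟨y, hyZ, rfl⟩
      refine ⟨mem_YY.2 fun l hl => ?_, h1⟩
      by_cases hli : l = i
      · subst hli
        exact (mem_centralizer_iff.1 h1 _ (h.zZ l)).symm
      · have e1 := mem_YY.1 hgY l hli
        have e2 := mem_YY.1 hy l hl
        have e3 : g⁻¹ * z l = z l * g⁻¹ := by
          rw [inv_mul_eq_iff_eq_mul, ← mul_assoc, e1, mul_inv_cancel_right]
        change g * y * g⁻¹ * z l = z l * (g * y * g⁻¹)
        calc g * y * g⁻¹ * z l = g * y * (g⁻¹ * z l) := by group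
          _ = g * (y * z l) * g⁻¹ := by rw [e3]; group
          _ = (g * z l) * y * g⁻¹ := by rw [e2]; group
          _ = z l * (g * y * g⁻¹) := by rw [e1]; group
    exact le_norm_of_cj_le key
  · refine inf_le_left.trans fun g hg => ?_
    exact centralizer_le_normalizer _ (mem_centralizer_iff.2 fun y hy => by
      obtain ⟨n, rfl⟩ := mem_zpowers_iff.1 hy
      exact ((show Commute g (z j) from mem_YY.1 hg j o.ne.symm).zpow_right n).eq.symm)
  · rintro y ⟨hy, hyz⟩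
    exact mem_DD_of hy (mem_centralizer_iff.1 hyz _ (mem_zpowers _)).symm

/-- the input of the end -/
theorem gin (hF : Fr (o2 (DD z)) (DD z) (ZT z) (YY z) (NN z) (LL z Z)) {i j : Fin k} {F₁ F : Subgroup G} {x : G}
    (o : Out (o2 (DD z)) (ZT z) (YY z) (NN z) (LL z Z) i j F₁ F x) (hK : IsKGroup (YY z j)) {p : G} (hp : p ∈ Z i)
    (hpz : p ∉ zpowers (z i)) :
    GInE (TT S W) (YY z j) (EE (ZT z) (YY z i ⊔ YY z j)) (NN z j) (ZC z j) (St z j p) F (z j) p where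
  TC := h.T_Y j
  two := T_two
  syl := Cfsg.Agent.ZN.ChoiceSit.syl_not_dvd (h.syl_Y (h.T_Y j) le_rfl)
  sq n hn := by
    rw [← pow_two]
    exact (eab_iff.1 (hF.Eeab i j o.ne)).2 n hn
  CN := (le_sup_right (a := YY z i)).trans (norm_EE _ _)
  ZN := ZC_ZT.trans (le_EE _ _)
  CZ c hc u hu := YY_ZC hc hu
  xN₀ := z_NN z j
  CN₀ := NN_norm j
  N₀N := hF.NE''
  min U hU hUn := EE_le fun y hy => by
    have h1 : cj y U = U := mem_normalizer_iff_cj.1 (hUn hy)
    rw [← h1]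
    exact cj_mono y (zpowers_le.2 hU)
  pN := hF.NE' (h.Z_NN i hp)
  stx c hc h1 := h.stx hc h1
  sty c hc := ⟨fun h1 => h1.2, fun h1 => ⟨hc, h1⟩⟩
  nx g hg hgT := mem_DD.1 (h.norm_T hg hgT).1 j
  ty t ht := h.NZ_St o.ne hp hpz (h.T_Y j ht) (h.T_Z i ht)
  uni R hR hRY := by
    rcases h.par hR hRY with h1 | h1 | ⟨L', hLR, hRL, -, hLc⟩
    · exact Or.inl h1
    · exact Or.inr fun r hr => h.NZ_St o.ne hp hpz (hRY hr) (h1 i hr)
    · refine Or.inr (hRL.trans (sup_le (fun l hl => ?_) fun t ht => ?_))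
      · exact h.NZ_St o.ne hp hpz (hRY (hLR hl)) (centralizer_le_normalizer _ (hLc i o.ne hl))
      · exact h.NZ_St o.ne hp hpz (h.T_Y j ht) (h.T_Z i ht)
  el a ha := by
    rw [← pow_two]
    exact (eab_iff.1 o.eab).2 a ha
  Ax := by
    have e : YY z j ⊓ centralizer ({z j} : Set G) = DD z := by
      ext y
      rw [mem_inf, mem_centralizer_singleton_iff]
      exact ⟨fun h1 => mem_DD_of h1.1 h1.2, fun h1 => ⟨DD_le_CT h1, mem_DD.1 h1 j⟩⟩
    rw [e]
    exact o.leO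
  Ay := by
    refine (h.low hF o).trans (le_o2 ?_ (o2_isPGroup _) ?_)
    · refine (Cfsg.Agent.ZN.o2_le _).trans ?_
      rintro y ⟨hy, hyZ⟩
      exact h.NZ_St o.ne hp hpz hy (centralizer_le_normalizer _ hyZ)
    · -- `C_{Y_j}(Z_i)` is normal in `St`
      have hY : ∀ y ∈ YY z j, y * p = p * y → y ∈ centralizer (Z i : Set G) := by
        intro y hy hyp
        rw [mem_centralizer_iff]
        intro w hw
        have hyz := mem_YY.1 hy i o.ne
        by_cases hwz : w ∈ zpowers (z i)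
        · rcases h.mem_zp hwz with rfl | rfl
          · simp
          · exact hyz.symm
        · have h1 : w * p⁻¹ ∈ zpowers (z i) := h.div_mem hp hpz hw hwz
          have h2 : w * p⁻¹ * y = y * (w * p⁻¹) := by
            rcases h.mem_zp h1 with e | e
            · rw [e]; simp
            · rw [e]; exact hyz.symm
          calc w * y = w * p⁻¹ * (p * y) := by group
            _ = w * p⁻¹ * y * p := by rw [← hyp]; group
            _ = y * w := by rw [h2]; group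
      have key : ∀ c ∈ St z j p, cj c (YY z j ⊓ centralizer (Z i : Set G)) ≤ YY z j ⊓ centralizer (Z i : Set G) := by
        rintro c hc _ ⟨y, ⟨hy, hyZ⟩, rfl⟩
        have hcy : c * y * c⁻¹ ∈ YY z j := mul_mem (mul_mem hc.1 hy) (inv_mem hc.1)
        refine ⟨hcy, hY _ hcy ?_⟩
        have h1 := (inv_mem hc : c⁻¹ ∈ St z j p).2
        rw [inv_inv] at h1
        generalize hu : c⁻¹ * p * c * p⁻¹ = u at h1
        have e1 : c⁻¹ * p * c = u * p := by rw [← hu]; group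
        have e3 : p * y = y * p := mem_centralizer_iff.1 hyZ p hp
        have e2 : y * (u * p) = u * p * y := by
          rw [← mul_assoc, YY_ZC hy h1, mul_assoc, mul_assoc, e3]
        calc c * y * c⁻¹ * p = c * (y * (c⁻¹ * p * c)) * c⁻¹ := by group
          _ = c * (c⁻¹ * p * c * y) * c⁻¹ := by rw [e1, e2]
          _ = p * (c * y * c⁻¹) := by group
      have hn := le_norm_of_cj_le key
      intro c hc
      rw [mem_normalizer_iff_cj, ← pCore_cj, mem_normalizer_iff_cj.1 (hn hc)]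
  mv := o.mov
  ex := by
    obtain ⟨-, h2, h3⟩ := o.relIndex_eq hF
    rw [h2, h3]
  KC := hK

/-- **contradiction** -/
theorem false_of' (h3 : 3 ≤ k) (hML : MLK.{u, u}) (hX : ML.Ex.Two.Ext.{u, u}) (hK : ∀ j, IsKGroup (YY z j)) (hE : NLY z)
    (hp : ∀ i, ∃ f ∈ DD z, f ∈ normalizer (W i : Set G) ∧ f ∉ normalizer (Z i : Set G)) : False := by
  have hF := h.fr h3 hML hK hE hp
  have hO : o2 (DD z) ≠ ⊥ := by
    obtain ⟨j, -⟩ := h.exists_idx
    intro e
    have h1 := h.NN_O j (z_NN z j)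
    rw [e, mem_bot] at h1
    exact h.z1 j h1
  obtain ⟨i, j, F₁, F, x, o⟩ := hF.star hO
  obtain ⟨p, hp, hpz⟩ := h.exists_p i
  exact (h.gin hF o (hK j) hp hpz).false hML hX

/-- **contradiction**, from the nonlocality of `⟨C_G(Z_J), L_1, .., L_k⟩` -/
theorem false_of (h3 : 3 ≤ k) (hML : MLK.{u, u}) (hX : ML.Ex.Two.Ext.{u, u}) (hK : ∀ j, IsKGroup (YY z j))
    (hE : NLoc (centralizer (ZJ : Set G) ⊔ ⨆ i, L i))
    (hp : ∀ i, ∃ f ∈ DD z, f ∈ normalizer (W i : Set G) ∧ f ∉ normalizer (Z i : Set G)) : False :=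
  h.false_of' h3 hML hX hK (h.nly hE) hp

end FrW

end Cfsg.Agent.Omega.EK3.FKG
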